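import Cfsg.Agent.S1265
import Cfsg.Agent.S0144
import Cfsg.Agent.SignalizersComponents.Components
import Cfsg.Prelude.Def_KGroupFacts
import Mathlib
import Cfsg.Agent.H341.ThreeList_m3
import Cfsg.Agent.H364.OutLie
import Cfsg.Agent.Lib.Zsigmondy
import Cfsg.Agent.FastGrp
import Cfsg.Agent.Prune
set_option linter.all false

section
prune_inst 0x7ffefffdafb83ddfffff7e7ffff9dffffbfcdfffffdffbfbfffdebffbfffa36f3be5fbaf7de4d8ff8ed6e2be38b87853f9fff67fef6bdc7ffffd5ff45ffbee5ff7ffbf8971d69d348ffc6ffffbf17fce7f3fffffffffffffffffffffffffffffffffffffffff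

-- part: H997/Rg/Core
section
prune_inst 0x200408000000001800004000004002000002004000000100040004800c0120010821b0200712111008644038004000000009001000002000020041180080000160820224a10020000000a803180c00000000000000000000000000000000000000000
set_option linter.all false
open scoped Cfsg.Agent.FastGrp

/-!
# Core of the residual cases of S3691 (helper997)

A finite group whose Sylow subgroups for all odd primes `s ≠ p` are cyclic, with an element `y` of prime order `r`
centralising the Fitting subgroup: either `⟨y⟩` is normal, or `y` lies in a normal quasisimple subgroup `L`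
and `K / C_K(L)` embeds in `Aut (L / Z(L))`.
-/

set_option autoImplicit false

open Subgroup Cfsg
open Cfsg.Agent.SignalizersComponents.Components

namespace Cfsg.Agent.H997.Rg

universe u

/-! ### Cyclic Sylow subgroups -/

/-- Elements of the same order in a cyclic subgroup generate the same subgroup. -/
theorem zpowers_eq_of_cyclic {G : Type*} [Group G] [Finite G] {P : Subgroup G} (hP : IsCyclic P) {a b : G}
    (ha : a ∈ P) (hb : b ∈ P) (hab : orderOf a = orderOf b) : zpowers a = zpowers b := by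
  classical
  haveI := Fintype.ofFinite P
  have hn : 0 < orderOf a := orderOf_pos a
  have key : ∀ x : P, orderOf x = orderOf a →
      (Finset.univ.filter fun z : P => z ^ orderOf a = 1) = (Set.toFinset (zpowers x : Set P)) := by
    intro x hx
    symm
    apply Finset.eq_of_subset_of_card_le
    · intro z hz
      rw [Set.mem_toFinset] at hz
      rw [Finset.mem_filter]
      refine ⟨Finset.mem_univ _, ?_⟩
      obtain ⟨k, rfl⟩ := mem_zpowers_iff.1 hz
      rw [← zpow_natCast, ← zpow_mul, mul_comm, zpow_mul, zpow_natCast, ← hx, pow_orderOf_eq_one, one_zpow]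
    · refine (IsCyclic.card_pow_eq_one_le hn).trans ?_
      rw [Set.toFinset_card]
      have : Fintype.card (zpowers x : Set P) = orderOf x := by
        rw [← Nat.card_eq_fintype_card]
        exact Nat.card_zpowers x
      rw [this, hx]
  have h1 := key ⟨a, ha⟩ (by rw [Subgroup.orderOf_mk])
  have h2 := key ⟨b, hb⟩ (by rw [Subgroup.orderOf_mk, hab])
  have h3 : (zpowers (⟨a, ha⟩ : P) : Set P) = zpowers (⟨b, hb⟩ : P) := by
    rw [← Set.toFinset_inj]; exact h1.symm.trans h2
  have h4 : zpowers (⟨a, ha⟩ : P) = zpowers (⟨b, hb⟩ : P) := SetLike.coe_injective h3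
  have h5 := congrArg (Subgroup.map P.subtype) h4
  rwa [MonoidHom.map_zpowers, MonoidHom.map_zpowers] at h5

/-- Commuting `s`-elements of the same order generate the same subgroup, when Sylow `s`-subgroups are cyclic. -/
theorem zpowers_eq {G : Type*} [Group G] [Finite G] {s : ℕ} (hs : s.Prime) (hcyc : ∀ P : Sylow s G, IsCyclic P)
    {a b : G} (hab : Commute a b) (ho : orderOf a = orderOf b) {i j : ℕ} (ha : a ^ s ^ i = 1) (hb : b ^ s ^ j = 1) :
    zpowers a = zpowers b := by
  haveI := Fact.mk hs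
  let Q : Subgroup G := zpowers a ⊔ zpowers b
  have hA : IsPGroup s (zpowers a) := by
    intro x
    refine ⟨i, ?_⟩
    obtain ⟨k, hk⟩ := mem_zpowers_iff.1 x.2
    apply Subtype.ext
    rw [Subgroup.coe_pow, ← hk, Subgroup.coe_one, ← zpow_natCast, ← zpow_mul, mul_comm, zpow_mul, zpow_natCast, ha,
      one_zpow]
  have hB : IsPGroup s (zpowers b) := by
    intro x
    refine ⟨j, ?_⟩
    obtain ⟨k, hk⟩ := mem_zpowers_iff.1 x.2
    apply Subtype.ext
    rw [Subgroup.coe_pow, ← hk, Subgroup.coe_one, ← zpow_natCast, ← zpow_mul, mul_comm, zpow_mul, zpow_natCast, hb,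
      one_zpow]
  have hle : zpowers a ≤ normalizer (zpowers b : Set G) := by
    rw [zpowers_le]
    apply Subgroup.centralizer_le_normalizer
    rw [mem_centralizer_iff]
    intro h hh
    obtain ⟨k, rfl⟩ := mem_zpowers_iff.1 hh
    exact (hab.zpow_right k).symm.eq
  have hQ : IsPGroup s (zpowers a ⊔ zpowers b : Subgroup G) := IsPGroup.to_sup_of_normal_right' hA hB hle
  obtain ⟨P, hP⟩ := hQ.exists_le_sylow
  exact zpowers_eq_of_cyclic (hcyc P) (hP (mem_sup_left (mem_zpowers a))) (hP (mem_sup_right (mem_zpowers b))) ho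

/-- From an element of order divisible by `s` modulo a normal subgroup we get an `s`-element outside. -/
theorem exists_s_element {L : Type*} [Group L] [Finite L] {s : ℕ} (hs : s.Prime) (Z : Subgroup L) [Z.Normal]
    (hd : s ∣ Nat.card (L ⧸ Z)) : ∃ a : L, a ∉ Z ∧ ∃ i : ℕ, a ^ s ^ i = 1 := by
  haveI := Fact.mk hs
  obtain ⟨x, hx⟩ := exists_prime_orderOf_dvd_card' (G := L ⧸ Z) s hd
  obtain ⟨b, rfl⟩ := QuotientGroup.mk_surjective x
  have hn : Nat.card L ≠ 0 := Nat.card_pos.ne'
  refine ⟨b ^ (Nat.card L / s ^ (Nat.card L).factorization s), ?_, (Nat.card L).factorization s, ?_⟩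
  · intro hmem
    have h1 : ((b : L ⧸ Z)) ^ (Nat.card L / s ^ (Nat.card L).factorization s) = 1 := by
      rw [← QuotientGroup.mk_pow]; exact (QuotientGroup.eq_one_iff _).2 hmem
    have h2 := orderOf_dvd_of_pow_eq_one h1
    rw [hx] at h2
    exact (Nat.not_dvd_ordCompl hs hn) h2
  · rw [← pow_mul, Nat.div_mul_cancel (Nat.ordProj_dvd _ _)]
    exact pow_card_eq_one'

/-! ### Automorphisms of perfect groups -/

/-- The automorphism induced modulo the centre. -/
def autQuot (L : Type*) [Group L] : MulAut L →* MulAut (L ⧸ center L) where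
  toFun a := QuotientGroup.congr (center L) (center L) a (by
    ext x
    constructor
    · rintro ⟨y, hy, rfl⟩
      have hy' : y ∈ center L := hy
      rw [mem_center_iff] at hy' ⊢
      intro g
      have := hy' (a.symm g)
      have h2 := congrArg a this
      rw [map_mul, map_mul, MulEquiv.apply_symm_apply] at h2
      exact h2
    · intro hx
      refine ⟨a.symm x, ?_, a.apply_symm_apply x⟩
      change a.symm x ∈ center L
      rw [mem_center_iff] at hx ⊢
      intro g
      have := hx (a g)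
      have h2 := congrArg a.symm this
      rw [map_mul, map_mul, MulEquiv.symm_apply_apply] at h2
      exact h2)
  map_one' := by
    ext x
    obtain ⟨x, rfl⟩ := QuotientGroup.mk_surjective x
    rfl
  map_mul' a b := by
    ext x
    obtain ⟨x, rfl⟩ := QuotientGroup.mk_surjective x
    rfl

theorem autQuot_mk {L : Type*} [Group L] (a : MulAut L) (x : L) :
    autQuot L a (x : L ⧸ center L) = ((a x : L) : L ⧸ center L) := rfl

/-- An automorphism of a perfect group which is trivial modulo the centre is trivial. -/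
theorem autQuot_injective {L : Type*} [Group L] (hL : Group.IsPerfect L) : Function.Injective (autQuot L) := by
  rw [injective_iff_map_eq_one]
  intro a ha
  have h1 : ∀ x : L, x⁻¹ * a x ∈ center L := by
    intro x
    have := congrArg (fun f : MulAut (L ⧸ center L) => f (x : L ⧸ center L)) ha
    simp only [autQuot_mk, MulAut.one_apply] at this
    exact QuotientGroup.eq.1 this.symm
  let f : L →* center L :=
    { toFun := fun x => ⟨x⁻¹ * a x, h1 x⟩
      map_one' := by apply Subtype.ext; simp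
      map_mul' := by
        intro x y
        apply Subtype.ext
        change (x * y)⁻¹ * a (x * y) = x⁻¹ * a x * (y⁻¹ * a y)
        have hc := mem_center_iff.1 (h1 x) y⁻¹
        rw [map_mul, mul_inv_rev]
        calc y⁻¹ * x⁻¹ * (a x * a y) = y⁻¹ * (x⁻¹ * a x) * a y := by group
          _ = (x⁻¹ * a x) * y⁻¹ * a y := by rw [hc]
          _ = _ := by group }
  have hf : f.ker = ⊤ := by
    rw [eq_top_iff]
    have h2 : commutator L ≤ f.ker := by
      letI : CommGroup (center L) := { (inferInstance : Group (center L)) with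
        mul_comm := fun a b => Subtype.ext (mem_center_iff.1 b.2 a) }
      exact Abelianization.commutator_subset_ker f
    rw [hL.commutator_eq_top] at h2
    exact h2
  ext x
  have : x ∈ f.ker := by rw [hf]; trivial
  have h3 : x⁻¹ * a x = 1 := congrArg Subtype.val (MonoidHom.mem_ker.1 this)
  rw [MulAut.one_apply]
  exact (inv_mul_eq_one.1 h3).symm

/-- A non-solvable finite group has order divisible by an odd prime different from `p`. -/
theorem exists_odd_prime {S : Type*} [Group S] [Finite S] (hS : ¬ Group.IsSolvable S) {p : ℕ} (hp : p.Prime) :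
    ∃ s : ℕ, s.Prime ∧ s ≠ 2 ∧ s ≠ p ∧ s ∣ Nat.card S := by
  by_contra hcon
  push Not at hcon
  apply hS
  have hn : Nat.card S ≠ 0 := Nat.card_pos.ne'
  have hm : (Nat.card S / 2 ^ (Nat.card S).factorization 2) ≠ 0 := (Nat.ordCompl_pos 2 hn).ne'
  have h1 : Nat.card S / 2 ^ (Nat.card S).factorization 2 =
      p ^ (Nat.card S / 2 ^ (Nat.card S).factorization 2).primeFactorsList.length := by
    apply Nat.eq_prime_pow_of_unique_prime_dvd hm
    intro d hd hdd
    by_contra hdp
    have hd2 : d ≠ 2 := by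
      rintro rfl
      exact Nat.not_dvd_ordCompl Nat.prime_two hn hdd
    exact hcon d hd hd2 hdp (hdd.trans (Nat.ordCompl_dvd _ _))
  have h2 : Nat.card S = 2 ^ (Nat.card S).factorization 2 *
      p ^ (Nat.card S / 2 ^ (Nat.card S).factorization 2).primeFactorsList.length := by
    rw [← h1, Nat.mul_div_cancel' (Nat.ordProj_dvd _ _)]
  exact Cfsg.Agent.S0144.result 2 p _ _ Nat.prime_two hp h2

theorem quasisimple_quot_not_solvable {L : Type*} [Group L] (hL : IsQuasisimple L) :
    ¬ Group.IsSolvable (L ⧸ center L) := by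
  intro hs
  have h1 : Group.IsSolvable L := by
    have := hs
    have hc : Group.IsSolvable (center L) := by
      letI : CommGroup (center L) := { (inferInstance : Group (center L)) with
        mul_comm := fun a b => Subtype.ext (mem_center_iff.1 b.2 a) }
      infer_instance
    exact Group.isSolvable_of_ker_le_range (center L).subtype (QuotientGroup.mk' (center L)) (by
      rw [QuotientGroup.ker_mk', Subgroup.range_subtype])
  exact quasisimple_not_isSolvable hL h1

/-- The main dichotomy. -/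
theorem coreA {K : Type u} [Group K] [Finite K] {p r : ℕ} (hp : p.Prime) (hr : r.Prime) (hrp : r ≠ p) (hr2 : r ≠ 2)
    (hcyc : ∀ s : ℕ, s.Prime → s ≠ 2 → s ≠ p → ∀ P : Sylow s K, IsCyclic P)
    (y : K) (hy : orderOf y = r) (hF : y ∈ centralizer (fittingSubgroup K : Set K))
    (hout : ∀ L : Subgroup K, IsComponent L → ¬ r ∣ Nat.card (Cfsg.Out (↥L ⧸ center ↥L))) :
    (zpowers y).Normal ∨ ∃ L : Subgroup K, IsComponent L ∧ L.Normal ∧ y ∈ L ∧ y ∉ centralizer (L : Set K) ∧
      Nat.card K ∣ Nat.card (centralizer (L : Set K)) * Nat.card (MulAut (↥L ⧸ center ↥L)) := by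
  classical
  have hyr : y ^ r ^ 1 = 1 := by rw [pow_one, ← hy]; exact pow_orderOf_eq_one y
  -- commuting elements of order r
  have hcomm : ∀ z : K, orderOf z = r → Commute y z → zpowers y = zpowers z := by
    intro z hz hc
    refine zpowers_eq hr (hcyc r hr hr2 hrp) hc (hy.trans hz.symm) hyr (j := 1) ?_
    rw [pow_one, ← hz]; exact pow_orderOf_eq_one z
  by_cases hcase : ∀ L : Subgroup K, IsComponent L → y ∈ centralizer (L : Set K)
  · left
    have h1 : generalizedFittingSubgroup K ≤ centralizer ({y} : Set K) := by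
      refine sup_le ?_ ?_
      · rw [layer_le_iff]
        intro L hL x hx
        rw [mem_centralizer_singleton_iff]
        exact (mem_centralizer_iff.1 (hcase L hL) x hx)
      · intro x hx
        rw [mem_centralizer_singleton_iff]
        exact (mem_centralizer_iff.1 hF x hx)
    have h2 : y ∈ generalizedFittingSubgroup K := by
      apply Cfsg.Agent.S1265.result
      rw [mem_centralizer_iff]
      intro x hx
      exact mem_centralizer_singleton_iff.1 (h1 hx)
    haveI hN : (generalizedFittingSubgroup K).Normal := by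
      have hl : (layer K).Normal := layer_normal K
      have hf : (fittingSubgroup K).Normal := by
        constructor
        intro n hn g
        have : fittingSubgroup K ≤ (fittingSubgroup K).comap (MulAut.conj g).toMonoidHom := by
          apply sSup_le
          rintro M ⟨hM, hMn⟩ x hx
          rw [mem_comap]
          exact (le_sSup (show M ∈ {N : Subgroup K | N.Normal ∧ Group.IsNilpotent N} from ⟨hM, hMn⟩)) (hM.conj_mem x hx g)
        exact this hn
      exact Subgroup.sup_normal _ _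
    constructor
    intro n hn k
    obtain ⟨j, rfl⟩ := mem_zpowers_iff.1 hn
    have h3 : k * y * k⁻¹ ∈ generalizedFittingSubgroup K := hN.conj_mem y h2 k
    have h4 : Commute y (k * y * k⁻¹) := (mem_centralizer_singleton_iff.1 (h1 h3)).symm
    have h5 : orderOf (k * y * k⁻¹) = r := by
      rw [← hy]
      exact (MulAut.conj k).orderOf_eq y
    rw [hcomm _ h5 h4, ← conj_zpow]
    exact zpow_mem (mem_zpowers _) j
  · right
    push Not at hcase
    obtain ⟨L, hL, hyL⟩ := hcase
    have hLq : IsQuasisimple L := hL.2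
    -- y normalises L
    have hnorm : L.map (MulAut.conj y).toMonoidHom = L := by
      by_contra hne
      have hL' : IsComponent (L.map (MulAut.conj y).toMonoidHom) := isComponent_conj y hL
      obtain ⟨s, hs, hs2, hsp, hsd⟩ := exists_odd_prime (quasisimple_quot_not_solvable hLq) hp
      obtain ⟨a, haZ, i, hai⟩ := exists_s_element hs (center L) hsd
      have hc := component_le_centralizer_of_ne hL' hL hne
      have ha' : y * (a : K) * y⁻¹ ∈ L.map (MulAut.conj y).toMonoidHom := ⟨a, a.2, rfl⟩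
      have hai' : (a : K) ^ s ^ i = 1 := by
        have := congrArg (Subtype.val) hai
        simpa using this
      have hab : Commute (a : K) (y * (a : K) * y⁻¹) := (mem_centralizer_iff.1 (hc ha') a a.2)
      have ho : orderOf (a : K) = orderOf (y * (a : K) * y⁻¹) := ((MulAut.conj y).orderOf_eq (a : K)).symm
      have hz := zpowers_eq hs (hcyc s hs hs2 hsp) hab ho hai' (j := i) (by rw [conj_pow, hai']; group)
      have ha2 : (a : K) ∈ L.map (MulAut.conj y).toMonoidHom := by
        have : (a : K) ∈ zpowers (y * (a : K) * y⁻¹) := by rw [← hz]; exact mem_zpowers _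
        exact (zpowers_le.2 ha') this
      apply haZ
      rw [mem_center_iff]
      intro g
      apply Subtype.ext
      exact mem_centralizer_iff.1 (hc ha2) g g.2
    have hyN : y ∈ normalizer (L : Set K) := by
      rw [Subgroup.mem_normalizer_iff]
      intro h
      constructor
      · intro hh
        rw [← hnorm]; exact ⟨h, hh, rfl⟩
      · intro hh
        rw [← hnorm] at hh
        obtain ⟨h', hh', he⟩ := hh
        have : h' = h := by
          have he' : y * h' * y⁻¹ = y * h * y⁻¹ := he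
          exact mul_left_cancel (mul_right_cancel he')
        rwa [← this]
    -- the automorphism of L/Z(L)
    let φ : normalizer (L : Set K) →* MulAut (↥L ⧸ center ↥L) := (autQuot ↥L).comp (normalizerMonoidHom L)
    have hφ : ∀ x, φ x = 1 → (x : K) ∈ centralizer (L : Set K) := by
      intro x hx
      have h1 : normalizerMonoidHom L x = 1 := autQuot_injective (quasisimple_isPerfect hLq) (by rw [map_one]; exact hx)
      have h2 : x ∈ (normalizerMonoidHom L).ker := h1
      rw [normalizerMonoidHom_ker] at h2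
      exact mem_subgroupOf.1 h2
    have hinn : φ ⟨y, hyN⟩ ∈ Inn (↥L ⧸ center ↥L) := by
      rw [← QuotientGroup.eq_one_iff]
      have h1 : ((φ ⟨y, hyN⟩ : MulAut (↥L ⧸ center ↥L)) : Cfsg.Out (↥L ⧸ center ↥L)) ^ r = 1 := by
        rw [← QuotientGroup.mk_pow, ← map_pow]
        have : (⟨y, hyN⟩ : normalizer (L : Set K)) ^ r = 1 := by
          apply Subtype.ext
          rw [Subgroup.coe_pow, Subgroup.coe_one, ← hy]; exact pow_orderOf_eq_one y
        rw [this, map_one]; rfl
      have h2 := orderOf_dvd_of_pow_eq_one h1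
      rcases (Nat.dvd_prime hr).1 h2 with h3 | h3
      · exact orderOf_eq_one_iff.1 h3
      · exfalso
        apply hout L hL
        rw [← h3]
        exact orderOf_dvd_natCard _
    obtain ⟨gq, hgq⟩ := hinn
    obtain ⟨g, rfl⟩ := QuotientGroup.mk_surjective gq
    have hgN : (g : K) ∈ normalizer (L : Set K) := le_normalizer g.2
    have hφg : φ ⟨g, hgN⟩ = MulAut.conj (g : ↥L ⧸ center ↥L) := by
      ext x
      obtain ⟨x, rfl⟩ := QuotientGroup.mk_surjective x
      rfl
    have hcent : (g : K)⁻¹ * y ∈ centralizer (L : Set K) := by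
      have := hφ (⟨g, hgN⟩⁻¹ * ⟨y, hyN⟩) (by rw [map_mul, map_inv, hφg, ← hgq]; exact inv_mul_cancel _)
      exact this
    set c : K := (g : K)⁻¹ * y with hcdef
    have hyg : y = g * c := by rw [hcdef]; group
    have hgc : Commute (g : K) c := mem_centralizer_iff.1 hcent g g.2
    -- pass to the r-parts
    have hNK : Nat.card K ≠ 0 := Nat.card_pos.ne'
    set u : ℕ := Nat.card K / r ^ (Nat.card K).factorization r with hu
    have hcop : Nat.Coprime r u := (Nat.coprime_ordCompl hr hNK)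
    obtain ⟨k, hk1, hk2⟩ := Nat.chineseRemainder hcop 1 0
    have hyk : y ^ k = y := by
      conv_rhs => rw [← pow_one y]
      rw [pow_eq_pow_iff_modEq, hy]; exact hk1
    have huk : u ∣ k := (Nat.modEq_zero_iff_dvd.1 hk2)
    have hpow : ∀ x : K, (x ^ k) ^ r ^ (Nat.card K).factorization r = 1 := by
      intro x
      obtain ⟨t, ht⟩ := huk
      rw [← pow_mul]
      have : k * r ^ (Nat.card K).factorization r = Nat.card K * t := by
        rw [ht, hu]
        calc Nat.card K / r ^ (Nat.card K).factorization r * t * r ^ (Nat.card K).factorization r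
            = (Nat.card K / r ^ (Nat.card K).factorization r * r ^ (Nat.card K).factorization r) * t := by ring
          _ = _ := by rw [Nat.div_mul_cancel (Nat.ordProj_dvd _ _)]
      rw [this, pow_mul, pow_card_eq_one', one_pow]
    have hyk' : y = (g : K) ^ k * c ^ k := by
      rw [← hgc.mul_pow, ← hyg]; exact hyk.symm
    have hg1 : (g : K) ^ k ≠ 1 := by
      intro h1
      rw [h1, one_mul] at hyk'
      apply hyL
      rw [hyk']
      exact pow_mem hcent k
    -- an element of order r in <g^k>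
    have hmem : y ∈ L := by
      have hne : orderOf ((g : K) ^ k) ≠ 1 := by
        intro h; exact hg1 (orderOf_eq_one_iff.1 h)
      have hdr : r ∣ orderOf ((g : K) ^ k) := by
        have h1 := orderOf_dvd_of_pow_eq_one (hpow g)
        obtain ⟨j, hj, hj'⟩ := (Nat.dvd_prime_pow hr).1 h1
        rw [hj']
        refine dvd_pow_self r ?_
        rintro rfl
        rw [pow_zero] at hj'
        exact hne hj'
      set g2 : K := ((g : K) ^ k) ^ (orderOf ((g : K) ^ k) / r) with hg2
      have hg2o : orderOf g2 = r := by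
        rw [hg2, orderOf_pow_of_dvd ?_ (Nat.div_dvd_of_dvd hdr)]
        · exact Nat.div_div_self hdr (orderOf_pos _).ne'
        · exact (Nat.div_pos (Nat.le_of_dvd (orderOf_pos _) hdr) hr.pos).ne'
      have hcg : Commute y g2 := by
        rw [hg2, hyg]
        apply Commute.pow_right
        apply Commute.pow_right
        exact (Commute.refl _).mul_left hgc.symm
      have hzz := hcomm g2 hg2o hcg
      have hg2L : g2 ∈ L := pow_mem (pow_mem g.2 k) _
      exact (zpowers_le.2 hg2L) (by rw [← hzz]; exact mem_zpowers y)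
    -- L is normal
    have hLn : L.Normal := by
      constructor
      intro n hn x
      by_contra hne
      have hne' : L.map (MulAut.conj x).toMonoidHom ≠ L := by
        intro h; apply hne; rw [← h]; exact ⟨n, hn, rfl⟩
      have hc := component_le_centralizer_of_ne (isComponent_conj x hL) hL hne'
      have hx' : x * y * x⁻¹ ∈ L.map (MulAut.conj x).toMonoidHom := ⟨y, hmem, rfl⟩
      have hcm : Commute y (x * y * x⁻¹) := mem_centralizer_iff.1 (hc hx') y hmem
      have hz := hcomm (x * y * x⁻¹) (by rw [← hy]; exact (MulAut.conj x).orderOf_eq y) hcm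
      have : y ∈ L.map (MulAut.conj x).toMonoidHom := (zpowers_le.2 hx') (by rw [← hz]; exact mem_zpowers y)
      exact hyL (hc this)
    refine ⟨L, hL, hLn, hmem, hyL, ?_⟩
    -- count
    have htop : normalizer (L : Set K) = ⊤ := Subgroup.normalizer_eq_top_iff.2 hLn
    let e : K →* normalizer (L : Set K) :=
      { toFun := fun x => ⟨x, by rw [htop]; trivial⟩
        map_one' := rfl
        map_mul' := fun _ _ => rfl }
    let ψ : K →* MulAut (↥L ⧸ center ↥L) := φ.comp e
    have hker : ψ.ker ≤ centralizer (L : Set K) := fun x hx => hφ (e x) (MonoidHom.mem_ker.1 hx)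
    have h1 : Nat.card K = Nat.card ψ.ker * Nat.card ψ.range := by
      rw [← Subgroup.card_mul_index ψ.ker, Subgroup.index_ker]
    rw [h1]
    exact Nat.mul_dvd_mul (Subgroup.card_dvd_of_le hker) (Subgroup.card_subgroup_dvd_card _)

/-- Two subgroups of prime order `r` are conjugate if the Sylow `r`-subgroups are cyclic. -/
theorem conj_of_cyclic {L : Type*} [Group L] [Finite L] {r : ℕ} (hr : r.Prime) (hcyc : ∀ P : Sylow r L, IsCyclic P)
    {a b : L} (ha : orderOf a = r) (hb : orderOf b = r) : ∃ g : L, zpowers (g * b * g⁻¹) = zpowers a := by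
  have := Fact.mk hr
  have hpg : ∀ x : L, orderOf x = r → IsPGroup r (zpowers x) := fun x hx => by
    rw [IsPGroup.iff_card]
    exact ⟨1, by rw [Nat.card_zpowers, hx, pow_one]⟩
  obtain ⟨P, hP⟩ := (hpg a ha).exists_le_sylow
  obtain ⟨Q, hQ⟩ := (hpg b hb).exists_le_sylow
  obtain ⟨g, hg⟩ := MulAction.exists_smul_eq L Q P
  have h1 : g * b * g⁻¹ ∈ P := by
    rw [← hg]
    exact Subgroup.smul_mem_pointwise_smul b (MulAut.conj g) (Q : Subgroup L) (hQ (mem_zpowers b))
  have h2 : orderOf (g * b * g⁻¹) = r := by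
    rw [← hb]; exact (MulAut.conj g).orderOf_eq b
  exact ⟨g, zpowers_eq_of_cyclic (hcyc P) h1 (hP (mem_zpowers a)) (h2.trans ha.symm)⟩

/-- Frattini argument: the `p`-part of `K` is at most that of `L/Z(L)` times that of the normalizer of `⟨y⟩`. -/
theorem frattini_fac {K : Type u} [Group K] [Finite K] {p r : ℕ} (hr : r.Prime)
    (hcyc : ∀ P : Sylow r K, IsCyclic P) (L : Subgroup K) (hL : L.Normal) {y : K} (hy : orderOf y = r) (hyL : y ∈ L)
    {c : ℕ} (hc : (Nat.card (normalizer (zpowers y : Set K))).factorization p ≤ c) :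
    (Nat.card K).factorization p ≤ c + (Nat.card (↥L ⧸ center ↥L)).factorization p := by
  set N : Subgroup K := normalizer (zpowers y : Set K) with hN
  have hcL : ∀ P : Sylow r L, IsCyclic P := by
    intro P
    obtain ⟨Q, hQ⟩ := Sylow.exists_comap_subtype_eq P
    have hle : (P : Subgroup L).map L.subtype ≤ Q := by
      rw [map_le_iff_le_comap]; rw [hQ]
    have := hcyc Q
    have h1 : IsCyclic ((P : Subgroup L).map L.subtype) := isCyclic_of_injective (inclusion hle) (inclusion_injective hle)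
    exact isCyclic_of_injective ((P : Subgroup L).equivMapOfInjective L.subtype L.subtype_injective).toMonoidHom
      (MulEquiv.injective _)
  have hsup : L ⊔ N = ⊤ := by
    rw [eq_top_iff]
    intro k _
    have h1 : k * y * k⁻¹ ∈ L := hL.conj_mem y hyL k
    obtain ⟨g, hg⟩ := conj_of_cyclic hr hcL (a := ⟨y, hyL⟩) (b := ⟨k * y * k⁻¹, h1⟩)
      (by rw [Subgroup.orderOf_mk]; exact hy)
      (by rw [Subgroup.orderOf_mk, ← hy]; exact (MulAut.conj k).orderOf_eq y)
    have h2 := congrArg (Subgroup.map L.subtype) hg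
    rw [MonoidHom.map_zpowers, MonoidHom.map_zpowers] at h2
    have h3 : (g : K) * k ∈ N := by
      rw [hN, Subgroup.mem_normalizer_iff]
      have hz : zpowers ((g : K) * k * y * ((g : K) * k)⁻¹) = zpowers y := by
        rw [← show (L.subtype (g * ⟨k * y * k⁻¹, h1⟩ * g⁻¹) : K) = (g : K) * k * y * ((g : K) * k)⁻¹ by
          simp [mul_assoc]]
        exact h2
      intro h
      constructor
      · intro hh
        obtain ⟨j, rfl⟩ := mem_zpowers_iff.1 hh
        rw [← conj_zpow]
        apply zpow_mem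
        show _ ∈ zpowers y
        rw [← hz]; exact mem_zpowers _
      · intro hh
        have hh' : (g : K) * k * h * ((g : K) * k)⁻¹ ∈ zpowers y := hh
        rw [← hz] at hh'
        obtain ⟨j, hj⟩ := mem_zpowers_iff.1 hh'
        rw [conj_zpow] at hj
        have := mul_left_cancel (mul_right_cancel hj)
        rw [← this]; exact zpow_mem (mem_zpowers y) j
    have h4 : k = ((g : K)⁻¹) * ((g : K) * k) := by group
    rw [h4]
    exact Subgroup.mul_mem_sup (L.inv_mem g.2) h3
  have h1 : Nat.card K * Nat.card (L ⊓ N : Subgroup K) = Nat.card L * Nat.card N := by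
    have h2 : L.relIndex (N ⊔ L) = L.relIndex N := Subgroup.relIndex_sup_right N L
    rw [sup_comm, hsup, Subgroup.relIndex_top_right] at h2
    have h3 : Nat.card L * L.index = Nat.card K := L.card_mul_index
    have h4 : Nat.card (L.subgroupOf N) * L.relIndex N = Nat.card N := Subgroup.card_mul_index _
    have h5 : Nat.card (L.subgroupOf N) = Nat.card (L ⊓ N : Subgroup K) := by
      rw [← Subgroup.inf_subgroupOf_right L N]
      exact Nat.card_congr (Subgroup.subgroupOfEquivOfLe (inf_le_right : L ⊓ N ≤ N)).toEquiv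
    rw [← h3, ← h4, ← h5, h2]; ring
  have h2 : Nat.card L = Nat.card (↥L ⧸ center ↥L) * Nat.card (center ↥L) := Subgroup.card_eq_card_quotient_mul_card_subgroup _
  have h3 : Nat.card (center ↥L) ∣ Nat.card (L ⊓ N : Subgroup K) := by
    have hle : (center ↥L).map L.subtype ≤ L ⊓ N := by
      rintro _ ⟨z, hz, rfl⟩
      refine ⟨z.2, ?_⟩
      have hzc : Commute (z : K) y := by
        have := mem_center_iff.1 hz ⟨y, hyL⟩
        exact (congrArg Subtype.val this).symm
      have : (z : K) ∈ centralizer (zpowers y : Set K) := by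
        rw [mem_centralizer_iff]
        intro h hh
        obtain ⟨j, rfl⟩ := mem_zpowers_iff.1 hh
        exact ((hzc.zpow_right j).eq).symm
      exact centralizer_le_normalizer _ this
    have := Subgroup.card_dvd_of_le hle
    rwa [Subgroup.card_map_of_injective L.subtype_injective] at this
  obtain ⟨m, hm⟩ := h3
  have hm0 : m ≠ 0 := by
    rintro rfl; rw [mul_zero] at hm; exact (Nat.card_pos (α := (L ⊓ N : Subgroup K))).ne' hm
  have h4 : Nat.card K * m = Nat.card (↥L ⧸ center ↥L) * Nat.card N := by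
    have h0 : 0 < Nat.card (center ↥L) := Nat.card_pos
    apply Nat.eq_of_mul_eq_mul_right h0
    rw [mul_assoc, mul_comm m, ← hm, h1, h2]; ring
  have h5 : (Nat.card K * m).factorization p = (Nat.card (↥L ⧸ center ↥L) * Nat.card N).factorization p := by rw [h4]
  rw [Nat.factorization_mul Nat.card_pos.ne' hm0, Nat.factorization_mul Nat.card_pos.ne' Nat.card_pos.ne',
    Finsupp.add_apply, Finsupp.add_apply] at h5
  omega

end Cfsg.Agent.H997.Rg
end

-- part: H370/Rg/Size
section
prune_inst 0x100005007c220000000000000200000030000000000000002100040001490000804000000200040010c410001800002000980000420000000a003000000200000002400012240700280000002003180c00000000000000000000000000000000000000000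
set_option linter.all false
open scoped Cfsg.Agent.FastGrp

/-!
# S3691: the size of the field of a simple group of Lie type of order greater than `3 * 29!` (helper370)

* `card_le` : `|T| ≤ (qf g) ^ (dm g)` for `IsNamed g T`, `g` a family of Lie type (`dm g` the dimension of the group);
* `lt_qf` : if moreover `N < |T|` and `c ^ dm g ≤ N` then `c < qf g`;
* `alt_ge`, `spor_bm`, and the theorems of the families: `3 * 29! < |T|` implies lower bounds of `q`.
-/

set_option autoImplicit false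

namespace Cfsg.Agent.H370.Rg

open Cfsg Cfsg.Agent.OrdDiv Cfsg.Agent.H436 Finset

universe u

/-- the dimension of the group of Lie type -/
def dm : Grp → ℕ
  | .psl n _ => n ^ 2 - 1
  | .psu n _ => n ^ 2 - 1
  | .psp m _ => m * (2 * m + 1)
  | .oodd m _ => m * (2 * m + 1)
  | .oplus m _ => m * (2 * m - 1)
  | .ominus m _ => m * (2 * m - 1)
  | .g2 _ => 14
  | .f4 _ => 52
  | .e6 _ => 78
  | .te6 _ => 78
  | .e7 _ => 133
  | .e8 _ => 248
  | .td4 _ => 28
  | .sz _ => 5
  | .ree _ => 7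
  | .tf4 _ => 26
  | _ => 0

/-- the parameter `q` -/
def qf : Grp → ℕ
  | .psl _ q | .psu _ q | .psp _ q | .oodd _ q | .oplus _ q | .ominus _ q => q
  | .g2 q | .f4 q | .e6 q | .te6 q | .e7 q | .e8 q | .td4 q | .sz q | .ree q | .tf4 q => q
  | _ => 0

theorem prodE_le (q k : ℕ) : ∏ i ∈ range k, (q ^ (2 * (i + 1)) - 1) ≤ q ^ (k * (k + 1)) := by
  induction k with
  | zero => simp
  | succ k ih =>
    rw [Finset.prod_range_succ]
    calc _ ≤ q ^ (k * (k + 1)) * q ^ (2 * (k + 1)) := Nat.mul_le_mul ih (Nat.sub_le _ _)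
      _ = _ := by rw [← pow_add]; congr 1; ring

theorem prodE_le' (q k : ℕ) : ∏ i ∈ range k, (q ^ (2 * (i + 1 + 1)) - 1) ≤ q ^ (k * (k + 3)) := by
  induction k with
  | zero => simp
  | succ k ih =>
    rw [Finset.prod_range_succ]
    calc _ ≤ q ^ (k * (k + 3)) * q ^ (2 * (k + 1 + 1)) := Nat.mul_le_mul ih (Nat.sub_le _ _)
      _ = _ := by rw [← pow_add]; congr 1; ring

theorem prB_le (q k : ℕ) : prB q k ≤ q ^ (k * (k + 1)) := by
  unfold prB
  rw [prod_list]
  exact prodE_le q k

theorem prodU_le (q k : ℕ) (hq : 1 ≤ q) :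
    ∏ i ∈ range k, (if Even i then q ^ (i + 2) - 1 else q ^ (i + 2) + 1) ≤ q ^ (k * (k + 3) / 2) := by
  have hev : ∀ j, ∏ i ∈ range (2 * j), (if Even i then q ^ (i + 2) - 1 else q ^ (i + 2) + 1) ≤
      q ^ (2 * j * (2 * j + 3) / 2) := by
    intro j
    induction j with
    | zero => simp only [_root_.MulZeroClass.mul_zero, _root_.Finset.range_zero, _root_.Finset.prod_empty, _root_.zero_add, _root_.MulZeroClass.zero_mul, _root_.Nat.zero_div, _root_.pow_zero, _root_.Std.le_refl]
    | succ j ih =>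
      rw [show 2 * (j + 1) = 2 * j + 1 + 1 by ring, Finset.prod_range_succ, Finset.prod_range_succ,
        if_pos (even_two_mul j), if_neg (Nat.not_even_two_mul_add_one j)]
      have h1 : (2 * j + 1 + 1) * (2 * j + 1 + 1 + 3) / 2 = 2 * j * (2 * j + 3) / 2 + (4 * j + 5) := by
        have : (2 * j + 1 + 1) * (2 * j + 1 + 1 + 3) = 2 * j * (2 * j + 3) + (4 * j + 5) * 2 := by ring
        rw [this, Nat.add_mul_div_right _ _ (by norm_num)]
      rw [h1, pow_add q (2 * j * (2 * j + 3) / 2) (4 * j + 5), mul_assoc]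
      refine Nat.mul_le_mul ih ?_
      obtain ⟨x, hx⟩ : ∃ x, q ^ (2 * j + 2) = x + 1 := ⟨q ^ (2 * j + 2) - 1, by
        have := Nat.one_le_pow (2 * j + 2) q hq; omega⟩
      have h2 : q ^ (2 * j + 1 + 2) = (x + 1) * q := by rw [← hx]; ring
      have h3 : q ^ (4 * j + 5) = (x + 1) * ((x + 1) * q) := by rw [← hx]; ring
      rw [hx, h2, h3, Nat.add_sub_cancel]
      linarith only [Nat.mul_le_mul_left x hq]
  rcases Nat.even_or_odd' k with ⟨j, rfl | rfl⟩
  · exact hev j
  · rw [Finset.prod_range_succ, if_pos (even_two_mul j)]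
    have h1 : (2 * j + 1) * (2 * j + 1 + 3) / 2 = 2 * j * (2 * j + 3) / 2 + (2 * j + 2) := by
      have : (2 * j + 1) * (2 * j + 1 + 3) = 2 * j * (2 * j + 3) + (2 * j + 2) * 2 := by ring
      rw [this, Nat.add_mul_div_right _ _ (by norm_num)]
    rw [h1, pow_add q (2 * j * (2 * j + 3) / 2) (2 * j + 2)]
    exact Nat.mul_le_mul (hev j) (Nat.sub_le _ _)

theorem sumLU (k : ℕ) : (k + 1) * k / 2 + k * (k + 3) / 2 = (k + 1) ^ 2 - 1 := by
  have h1 : 2 * ((k + 1) * k / 2) = (k + 1) * k :=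
    Nat.two_mul_div_two_of_even (by rw [mul_comm]; exact Nat.even_mul_succ_self k)
  have h2 : 2 * (k * (k + 3) / 2) = k * (k + 3) := by
    apply Nat.two_mul_div_two_of_even
    have : k * (k + 3) = k * (k + 1) + 2 * k := by ring
    rw [this]
    exact (Nat.even_mul_succ_self k).add (even_two_mul k)
  have h3 : (k + 1) ^ 2 = (k * (k + 2)) + 1 := by ring
  have h4 : (k + 1) * k + k * (k + 3) = 2 * (k * (k + 2)) := by ring
  omega

theorem prU_le {q k : ℕ} (hq : 1 ≤ q) : prU q (k + 1) ≤ (q + 1) * q ^ (k * (k + 3) / 2) := by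
  unfold prU
  rw [prod_list, Finset.prod_range_succ']
  rw [mul_comm]
  refine Nat.mul_le_mul (le_of_eq ?_) ?_
  · norm_num
  · refine le_trans (le_of_eq ?_) (prodU_le q k hq)
    refine Finset.prod_congr rfl fun i _ => ?_
    by_cases h : Even i
    · rw [if_pos h, if_neg]
      rw [Nat.beq_eq]
      have := Nat.even_iff.1 h
      omega
    · rw [if_neg h, if_pos]
      rw [Nat.beq_eq]
      have := Nat.odd_iff.1 (Nat.not_even_iff_odd.1 h)
      omega

theorem glN_le {q k : ℕ} : glN (k + 1) q ≤ (q - 1) * q ^ ((k + 1) ^ 2 - 1) := by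
  unfold glN
  rw [prod_list, Finset.prod_range_succ]
  have h1 : ∏ i ∈ range k, (q ^ (k + 1) - q ^ i) ≤ ∏ _i ∈ range k, q ^ (k + 1) :=
    Finset.prod_le_prod' fun i _ => Nat.sub_le _ _
  have h2 : q ^ (k + 1) - q ^ k = (q - 1) * q ^ k := by
    rw [Nat.sub_mul, one_mul, pow_succ, mul_comm]
  rw [Finset.prod_const, Finset.card_range, ← pow_mul] at h1
  rw [h2]
  calc _ ≤ q ^ ((k + 1) * k) * ((q - 1) * q ^ k) := Nat.mul_le_mul_right _ h1
    _ = (q - 1) * q ^ ((k + 1) * k + k) := by rw [pow_add]; ring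
    _ = _ := by
        congr 2
        have : (k + 1) ^ 2 = (k + 1) * k + k + 1 := by ring
        omega

theorem of_den {c d n B : ℕ} (h : d * c = n) (hd : 1 ≤ d) (hn : n ≤ B) : c ≤ B := by
  calc c = 1 * c := (one_mul c).symm
    _ ≤ d * c := Nat.mul_le_mul_right _ hd
    _ ≤ B := h.le.trans hn

/-- `|T| ≤ q ^ dim` -/
theorem card_le {g : Grp} {T : Type u} [Group T] (h : IsNamed g T) (hg : dm g ≠ 0) : Nat.card T ≤ qf g ^ dm g := by
  have he := h.eq
  have hc := h.cond
  cases g with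
  | psl n q =>
    obtain ⟨hn, hn2, hq⟩ := hc
    have hq1 := hq.one_lt
    obtain ⟨k, rfl⟩ : ∃ k, n = k + 1 := ⟨n - 1, by omega⟩
    change Nat.gcd (k + 1) (q - 1) * (q - 1) * Nat.card T = glN (k + 1) q at he
    change Nat.card T ≤ q ^ ((k + 1) ^ 2 - 1)
    have h1 : (q - 1) * Nat.card T ≤ (q - 1) * q ^ ((k + 1) ^ 2 - 1) := by
      refine le_trans ?_ glN_le
      rw [← he, mul_assoc]
      exact Nat.le_mul_of_pos_left _ (Nat.gcd_pos_of_pos_left _ (by omega))
    exact Nat.le_of_mul_le_mul_left h1 (by omega)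
  | psp m q =>
    obtain ⟨hn, hn2, hq⟩ := hc
    have hq1 := hq.one_lt
    change Nat.gcd 2 (q - 1) * Nat.card T = q ^ (m ^ 2) * prB q m at he
    change Nat.card T ≤ q ^ (m * (2 * m + 1))
    refine of_den he (Nat.gcd_pos_of_pos_left _ (by omega)) ?_
    calc _ ≤ q ^ (m ^ 2) * q ^ (m * (m + 1)) := Nat.mul_le_mul_left _ (prB_le q m)
      _ = _ := by rw [← pow_add]; congr 1; ring
  | psu n q =>
    obtain ⟨hn, hn2, hq⟩ := hc
    have hq1 := hq.one_lt
    obtain ⟨k, rfl⟩ : ∃ k, n = k + 1 := ⟨n - 1, by omega⟩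
    change Nat.gcd (k + 1) (q + 1) * (q + 1) * Nat.card T = q ^ ((k + 1) * (k + 1 - 1) / 2) * prU q (k + 1) at he
    change Nat.card T ≤ q ^ ((k + 1) ^ 2 - 1)
    have h1 : (q + 1) * Nat.card T ≤ (q + 1) * q ^ ((k + 1) ^ 2 - 1) := by
      calc (q + 1) * Nat.card T ≤ Nat.gcd (k + 1) (q + 1) * ((q + 1) * Nat.card T) :=
            Nat.le_mul_of_pos_left _ (Nat.gcd_pos_of_pos_left _ (by omega))
        _ = q ^ ((k + 1) * k / 2) * prU q (k + 1) := by rw [← mul_assoc]; exact he
        _ ≤ q ^ ((k + 1) * k / 2) * ((q + 1) * q ^ (k * (k + 3) / 2)) := Nat.mul_le_mul_left _ (prU_le (by omega))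
        _ = (q + 1) * q ^ ((k + 1) * k / 2 + k * (k + 3) / 2) := by rw [pow_add]; ring
        _ = _ := by rw [sumLU]
    exact Nat.le_of_mul_le_mul_left h1 (by omega)
  | oodd m q =>
    obtain ⟨hn, hn2, hq⟩ := hc
    have hq1 := hq.one_lt
    change 2 * Nat.card T = q ^ (m ^ 2) * prB q m at he
    change Nat.card T ≤ q ^ (m * (2 * m + 1))
    refine of_den he (by omega) ?_
    calc _ ≤ q ^ (m ^ 2) * q ^ (m * (m + 1)) := Nat.mul_le_mul_left _ (prB_le q m)
      _ = _ := by rw [← pow_add]; congr 1; ring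
  | oplus m q =>
    obtain ⟨hn, hq⟩ := hc
    have hq1 := hq.one_lt
    obtain ⟨k, rfl⟩ : ∃ k, m = k + 1 := ⟨m - 1, by omega⟩
    change Nat.gcd 4 (q ^ (k + 1) - 1) * Nat.card T = q ^ ((k + 1) * (k + 1 - 1)) *
      ((q ^ (k + 1) - 1) * prB q (k + 1 - 1)) at he
    change Nat.card T ≤ q ^ ((k + 1) * (2 * (k + 1) - 1))
    refine of_den he (Nat.gcd_pos_of_pos_left _ (by omega)) ?_
    rw [Nat.add_sub_cancel]
    calc _ ≤ q ^ ((k + 1) * k) * (q ^ (k + 1) * q ^ (k * (k + 1))) :=
          Nat.mul_le_mul_left _ (Nat.mul_le_mul (Nat.sub_le _ _) (prB_le q k))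
      _ = _ := by
        rw [← pow_add, ← pow_add]
        congr 1
        rw [show 2 * (k + 1) - 1 = 2 * k + 1 by omega]
        ring
  | ominus m q =>
    obtain ⟨hn, hq⟩ := hc
    have hq1 := hq.one_lt
    obtain ⟨k, rfl⟩ : ∃ k, m = k + 2 := ⟨m - 2, by omega⟩
    change Nat.gcd 4 (q ^ (k + 2) + 1) * Nat.card T = q ^ ((k + 2) * (k + 1)) *
      ((q ^ (k + 2) + 1) * prB q (k + 1)) at he
    change Nat.card T ≤ q ^ ((k + 2) * (2 * (k + 2) - 1))
    refine of_den he (Nat.gcd_pos_of_pos_left _ (by omega)) ?_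
    have h1 : (q ^ (k + 2) + 1) * prB q (k + 1) ≤ q ^ (k + 2) * q ^ ((k + 1) * (k + 2)) := by
      unfold prB
      rw [prod_list, Finset.prod_range_succ']
      have h2 := prodE_le' q k
      have h3 : (q ^ (k + 2) + 1) * (q ^ (2 * (0 + 1)) - 1) ≤ q ^ (k + 2) * q ^ 2 := by
        have h4 : q ^ 2 ≤ q ^ (k + 2) := Nat.pow_le_pow_right (by omega) (by omega)
        obtain ⟨y, hy⟩ : ∃ y, q ^ 2 = y + 1 := ⟨q ^ 2 - 1, by
          have := Nat.one_le_pow 2 q (by omega); omega⟩
        rw [show 2 * (0 + 1) = 2 by norm_num, hy, Nat.add_sub_cancel]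
        rw [hy] at h4
        linarith only [h4]
      calc _ = (∏ i ∈ range k, (q ^ (2 * (i + 1 + 1)) - 1)) * ((q ^ (k + 2) + 1) * (q ^ (2 * (0 + 1)) - 1)) := by ring
        _ ≤ q ^ (k * (k + 3)) * (q ^ (k + 2) * q ^ 2) := Nat.mul_le_mul h2 h3
        _ = _ := by rw [← pow_add, ← pow_add, ← pow_add]; congr 1; ring
    calc _ ≤ q ^ ((k + 2) * (k + 1)) * (q ^ (k + 2) * q ^ ((k + 1) * (k + 2))) := Nat.mul_le_mul_left _ h1
      _ = _ := by
        rw [← pow_add, ← pow_add]
        congr 1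
        rw [show 2 * (k + 2) - 1 = 2 * k + 3 by omega]
        ring
  | g2 q =>
    change 1 * Nat.card T = q ^ 6 * ((q ^ 2 - 1) * (q ^ 6 - 1)) at he
    change Nat.card T ≤ q ^ 14
    refine of_den he le_rfl ?_
    calc _ ≤ q ^ 6 * (q ^ 2 * q ^ 6) := by gcongr <;> exact Nat.sub_le _ _
      _ = _ := by ring
  | f4 q =>
    change 1 * Nat.card T = q ^ 24 * ((q ^ 2 - 1) * (q ^ 6 - 1) * (q ^ 8 - 1) * (q ^ 12 - 1)) at he
    change Nat.card T ≤ q ^ 52
    refine of_den he le_rfl ?_
    calc _ ≤ q ^ 24 * (q ^ 2 * q ^ 6 * q ^ 8 * q ^ 12) := by gcongr <;> exact Nat.sub_le _ _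
      _ = _ := by ring
  | e6 q =>
    change Nat.gcd 3 (q - 1) * Nat.card T = q ^ 36 * ((q ^ 2 - 1) * (q ^ 5 - 1) * (q ^ 6 - 1) * (q ^ 8 - 1) *
      (q ^ 9 - 1) * (q ^ 12 - 1)) at he
    change Nat.card T ≤ q ^ 78
    refine of_den he (Nat.gcd_pos_of_pos_left _ (by omega)) ?_
    calc _ ≤ q ^ 36 * (q ^ 2 * q ^ 5 * q ^ 6 * q ^ 8 * q ^ 9 * q ^ 12) := by gcongr <;> exact Nat.sub_le _ _
      _ = _ := by ring
  | e7 q =>
    change Nat.gcd 2 (q - 1) * Nat.card T = q ^ 63 * ((q ^ 2 - 1) * (q ^ 6 - 1) * (q ^ 8 - 1) * (q ^ 10 - 1) *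
      (q ^ 12 - 1) * (q ^ 14 - 1) * (q ^ 18 - 1)) at he
    change Nat.card T ≤ q ^ 133
    refine of_den he (Nat.gcd_pos_of_pos_left _ (by omega)) ?_
    calc _ ≤ q ^ 63 * (q ^ 2 * q ^ 6 * q ^ 8 * q ^ 10 * q ^ 12 * q ^ 14 * q ^ 18) := by
          gcongr <;> exact Nat.sub_le _ _
      _ = _ := by ring
  | e8 q =>
    change 1 * Nat.card T = q ^ 120 * ((q ^ 2 - 1) * (q ^ 8 - 1) * (q ^ 12 - 1) * (q ^ 14 - 1) * (q ^ 18 - 1) *
      (q ^ 20 - 1) * (q ^ 24 - 1) * (q ^ 30 - 1)) at he
    change Nat.card T ≤ q ^ 248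
    refine of_den he le_rfl ?_
    calc _ ≤ q ^ 120 * (q ^ 2 * q ^ 8 * q ^ 12 * q ^ 14 * q ^ 18 * q ^ 20 * q ^ 24 * q ^ 30) := by
          gcongr <;> exact Nat.sub_le _ _
      _ = _ := by ring
  | te6 q =>
    have hq1 := IsPrimePow.one_lt (show IsPrimePow q from hc)
    change Nat.gcd 3 (q + 1) * Nat.card T = q ^ 36 * ((q ^ 2 - 1) * (q ^ 5 + 1) * (q ^ 6 - 1) * (q ^ 8 - 1) *
      (q ^ 9 + 1) * (q ^ 12 - 1)) at he
    change Nat.card T ≤ q ^ 78
    refine of_den he (Nat.gcd_pos_of_pos_left _ (by omega)) ?_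
    have h1 : (q ^ 2 - 1) * (q ^ 5 + 1) ≤ q ^ 2 * q ^ 5 := by
      obtain ⟨y, hy⟩ : ∃ y, q ^ 2 = y + 1 := ⟨q ^ 2 - 1, by
        have := Nat.one_le_pow 2 q (by omega); omega⟩
      have h4 : q ^ 2 ≤ q ^ 5 := Nat.pow_le_pow_right (by omega) (by omega)
      rw [hy] at h4
      rw [hy, Nat.add_sub_cancel]
      linarith only [h4]
    have h2 : (q ^ 8 - 1) * (q ^ 9 + 1) ≤ q ^ 8 * q ^ 9 := by
      obtain ⟨y, hy⟩ : ∃ y, q ^ 8 = y + 1 := ⟨q ^ 8 - 1, by
        have := Nat.one_le_pow 8 q (by omega); omega⟩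
      have h4 : q ^ 8 ≤ q ^ 9 := Nat.pow_le_pow_right (by omega) (by omega)
      rw [hy] at h4
      rw [hy, Nat.add_sub_cancel]
      linarith only [h4]
    calc _ = q ^ 36 * (((q ^ 2 - 1) * (q ^ 5 + 1)) * (q ^ 6 - 1) * ((q ^ 8 - 1) * (q ^ 9 + 1)) * (q ^ 12 - 1)) := by
          ring
      _ ≤ q ^ 36 * ((q ^ 2 * q ^ 5) * q ^ 6 * (q ^ 8 * q ^ 9) * q ^ 12) := by
          gcongr <;> exact Nat.sub_le _ _
      _ = _ := by ring
  | td4 q =>
    have hq1 := IsPrimePow.one_lt (show IsPrimePow q from hc)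
    change 1 * Nat.card T = q ^ 12 * ((q ^ 2 - 1) * (q ^ 6 - 1) * (q ^ 8 + q ^ 4 + 1)) at he
    change Nat.card T ≤ q ^ 28
    refine of_den he le_rfl ?_
    have h1 : (q ^ 2 - 1) * (q ^ 8 + q ^ 4 + 1) ≤ q ^ 10 := by
      obtain ⟨y, hy⟩ : ∃ y, q ^ 2 = y + 1 := ⟨q ^ 2 - 1, by
        have := Nat.one_le_pow 2 q (by omega); omega⟩
      have h4 : q ^ 8 = (y + 1) ^ 4 := by rw [← hy]; ring
      have h5 : q ^ 4 = (y + 1) ^ 2 := by rw [← hy]; ring
      have h6 : q ^ 10 = (y + 1) ^ 5 := by rw [← hy]; ring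
      rw [hy, h4, h5, h6, Nat.add_sub_cancel]
      linarith only [Nat.zero_le (y ^ 3), Nat.zero_le (y ^ 4), _root_.sq_nonneg (↑y : ℤ), _root_.Nat.cast_nonneg (α := ℤ) (y)]
    calc _ = q ^ 12 * (((q ^ 2 - 1) * (q ^ 8 + q ^ 4 + 1)) * (q ^ 6 - 1)) := by ring
      _ ≤ q ^ 12 * (q ^ 10 * q ^ 6) := by gcongr; exact Nat.sub_le _ _
      _ = _ := by ring
  | sz q =>
    obtain ⟨m, hm, rfl⟩ := hc
    set q := 2 ^ (2 * m + 1) with hqd
    have hq1 : 1 < q := Nat.one_lt_two_pow (by omega)
    change 1 * Nat.card T = q ^ 2 * ((q - 1) * (q ^ 2 + 1)) at he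
    change Nat.card T ≤ q ^ 5
    refine of_den he le_rfl ?_
    have h1 : (q - 1) * (q ^ 2 + 1) ≤ q ^ 3 := by
      obtain ⟨y, hy⟩ : ∃ y, q = y + 1 := ⟨q - 1, by omega⟩
      rw [hy, Nat.add_sub_cancel]
      linarith only [_root_.sq_nonneg (↑y : ℤ)]
    calc _ ≤ q ^ 2 * q ^ 3 := Nat.mul_le_mul_left _ h1
      _ = _ := by ring
  | ree q =>
    obtain ⟨m, hm, rfl⟩ := hc
    set q := 3 ^ (2 * m + 1) with hqd
    have hq1 : 1 < q := Nat.one_lt_pow (by omega) (by norm_num)
    change 1 * Nat.card T = q ^ 3 * ((q - 1) * (q ^ 3 + 1)) at he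
    change Nat.card T ≤ q ^ 7
    refine of_den he le_rfl ?_
    have h1 : (q - 1) * (q ^ 3 + 1) ≤ q ^ 4 := by
      obtain ⟨y, hy⟩ : ∃ y, q = y + 1 := ⟨q - 1, by omega⟩
      rw [hy, Nat.add_sub_cancel]
      linarith only [Nat.zero_le (y ^ 3), _root_.sq_nonneg (↑y : ℤ)]
    calc _ ≤ q ^ 3 * q ^ 4 := Nat.mul_le_mul_left _ h1
      _ = _ := by ring
  | tf4 q =>
    obtain ⟨m, hm, rfl⟩ := hc
    set q := 2 ^ (2 * m + 1) with hqd
    have hq1 : 1 < q := Nat.one_lt_two_pow (by omega)
    change 1 * Nat.card T = q ^ 12 * ((q - 1) * (q ^ 3 + 1) * (q ^ 4 - 1) * (q ^ 6 + 1)) at he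
    change Nat.card T ≤ q ^ 26
    refine of_den he le_rfl ?_
    have h1 : (q - 1) * (q ^ 3 + 1) ≤ q ^ 4 := by
      obtain ⟨y, hy⟩ : ∃ y, q = y + 1 := ⟨q - 1, by omega⟩
      rw [hy, Nat.add_sub_cancel]
      linarith only [Nat.zero_le (y ^ 3), _root_.sq_nonneg (↑y : ℤ)]
    have h2 : (q ^ 4 - 1) * (q ^ 6 + 1) ≤ q ^ 10 := by
      obtain ⟨y, hy⟩ : ∃ y, q ^ 4 = y + 1 := ⟨q ^ 4 - 1, by
        have := Nat.one_le_pow 4 q (by omega); omega⟩
      have h4 : q ^ 4 ≤ q ^ 6 := Nat.pow_le_pow_right (by omega) (by omega)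
      have h5 : q ^ 10 = q ^ 4 * q ^ 6 := by ring
      rw [h5]
      rw [hy] at h4
      rw [hy, Nat.add_sub_cancel]
      linarith only [h4]
    calc _ = q ^ 12 * (((q - 1) * (q ^ 3 + 1)) * ((q ^ 4 - 1) * (q ^ 6 + 1))) := by ring
      _ ≤ q ^ 12 * (q ^ 4 * q ^ 10) := Nat.mul_le_mul_left _ (Nat.mul_le_mul h1 h2)
      _ = _ := by ring
  | _ => exact absurd rfl hg

/-- the general lower bound of `q` -/
theorem lt_qf {g : Grp} {T : Type u} [Group T] (h : IsNamed g T) {c N : ℕ} (hN : N < Nat.card T)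
    (hg : dm g ≠ 0) (hc : c ^ dm g ≤ N) : c < qf g := by
  by_contra hcon
  have h1 : qf g ^ dm g ≤ c ^ dm g := Nat.pow_le_pow_left (by omega) _
  have := card_le h hg
  omega

/-! ### the families, `3 * 29! < |T|` -/

section

variable {T : Type u} [Group T] (hT : 3 * Nat.factorial 29 < Nat.card T)

include hT

theorem alt_ge {m : ℕ} (h : IsNamed (.alt m) T) : 30 ≤ m := by
  by_contra hcon
  have h1 : 2 * Nat.card T = m.factorial := h.eq
  have h2 : m.factorial ≤ Nat.factorial 29 := Nat.factorial_le (by omega)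
  omega

theorem psl_ge {n q : ℕ} (h : IsNamed (.psl n q) T) :
    (n = 2 → 29823000000 < q) ∧ (n = 3 → 8471 < q) ∧ (n = 4 → 124 < q) ∧ (n = 5 → 20 < q) ∧ (n = 6 → 7 < q) ∧
      (n = 7 → 4 < q) ∧ (n = 8 → 3 < q) ∧ (n ≤ 10 → 2 < q) := by
  refine ⟨?_, ?_, ?_, ?_, ?_, ?_, ?_, ?_⟩
  any_goals
    rintro rfl
    exact lt_qf h hT (by simp only [dm, _root_.Nat.reducePow, _root_.Nat.add_one_sub_one, _root_.ne_eq, _root_.OfNat.ofNat_ne_zero, _root_.not_false_eq_true]) (by norm_num only [dm, Nat.factorial])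
  intro hn
  refine lt_qf h hT (by have := h.cond.1; simp only [dm]; have : 2 ^ 2 ≤ n ^ 2 := Nat.pow_le_pow_left this _; omega) ?_
  have h1 : n ^ 2 ≤ 10 ^ 2 := Nat.pow_le_pow_left hn _
  calc 2 ^ (n ^ 2 - 1) ≤ 2 ^ 99 := Nat.pow_le_pow_right (by norm_num) (by omega)
    _ ≤ _ := by norm_num [Nat.factorial]

theorem psu_ge {n q : ℕ} (h : IsNamed (.psu n q) T) :
    (n = 3 → 8471 < q) ∧ (n = 4 → 124 < q) ∧ (n = 5 → 20 < q) ∧ (n = 6 → 7 < q) ∧
      (n = 7 → 4 < q) ∧ (n = 8 → 3 < q) ∧ (n ≤ 10 → 2 < q) := by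
  refine ⟨?_, ?_, ?_, ?_, ?_, ?_, ?_⟩
  any_goals
    rintro rfl
    exact lt_qf h hT (by simp only [dm, _root_.Nat.reducePow, _root_.Nat.add_one_sub_one, _root_.ne_eq, _root_.OfNat.ofNat_ne_zero, _root_.not_false_eq_true]) (by norm_num only [dm, Nat.factorial])
  intro hn
  refine lt_qf h hT (by have := h.cond.1; simp only [dm]; have : 3 ^ 2 ≤ n ^ 2 := Nat.pow_le_pow_left this _; omega) ?_
  have h1 : n ^ 2 ≤ 10 ^ 2 := Nat.pow_le_pow_left hn _
  calc 2 ^ (n ^ 2 - 1) ≤ 2 ^ 99 := Nat.pow_le_pow_right (by norm_num) (by omega)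
    _ ≤ _ := by norm_num [Nat.factorial]

theorem psp_ge {m q : ℕ} (h : IsNamed (.psp m q) T) :
    (m = 2 → 1387 < q) ∧ (m = 3 → 31 < q) ∧ (m = 4 → 7 < q) ∧ (m = 5 → 3 < q) ∧ (m ≤ 6 → 2 < q) := by
  refine ⟨?_, ?_, ?_, ?_, ?_⟩
  any_goals
    rintro rfl
    exact lt_qf h hT (by simp [dm]) (by norm_num [dm, Nat.factorial])
  intro hn
  refine lt_qf h hT (by have := h.cond.1; simp only [dm]; positivity) ?_
  have h1 : m * (2 * m + 1) ≤ 6 * 13 := Nat.mul_le_mul hn (by omega)
  calc 2 ^ (m * (2 * m + 1)) ≤ 2 ^ 78 := Nat.pow_le_pow_right (by norm_num) (by omega)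
    _ ≤ _ := by norm_num [Nat.factorial]

theorem oodd_ge {m q : ℕ} (h : IsNamed (.oodd m q) T) :
    (m = 3 → 31 < q) ∧ (m = 4 → 7 < q) ∧ (m = 5 → 3 < q) ∧ 2 < q := by
  refine ⟨?_, ?_, ?_, ?_⟩
  any_goals
    rintro rfl
    exact lt_qf h hT (by simp [dm]) (by norm_num [dm, Nat.factorial])
  obtain ⟨-, h1, h2⟩ := h.cond
  have h3 := h2.one_lt
  obtain ⟨k, hk⟩ := h1
  omega

theorem oplus_ge {m q : ℕ} (h : IsNamed (.oplus m q) T) :
    (m = 4 → 13 < q) ∧ (m = 5 → 4 < q) ∧ (m ≤ 7 → 2 < q) := by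
  refine ⟨?_, ?_, ?_⟩
  any_goals
    rintro rfl
    exact lt_qf h hT (by simp only [dm, _root_.Nat.reduceMul, _root_.Nat.add_one_sub_one, _root_.ne_eq, _root_.OfNat.ofNat_ne_zero, _root_.not_false_eq_true]) (by norm_num [dm, Nat.factorial])
  intro hn
  have h4 := h.cond.1
  refine lt_qf h hT (by simp only [dm]; have : 0 < m * (2 * m - 1) := Nat.mul_pos (by omega) (by omega); omega) ?_
  have h1 : m * (2 * m - 1) ≤ 7 * 13 := Nat.mul_le_mul hn (by omega)
  calc 2 ^ (m * (2 * m - 1)) ≤ 2 ^ 91 := Nat.pow_le_pow_right (by norm_num) (by omega)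
    _ ≤ _ := by norm_num [Nat.factorial]

theorem ominus_ge {m q : ℕ} (h : IsNamed (.ominus m q) T) :
    (m = 4 → 13 < q) ∧ (m = 5 → 4 < q) ∧ (m ≤ 7 → 2 < q) := by
  refine ⟨?_, ?_, ?_⟩
  any_goals
    rintro rfl
    exact lt_qf h hT (by simp only [dm, _root_.Nat.reduceMul, _root_.Nat.add_one_sub_one, _root_.ne_eq, _root_.OfNat.ofNat_ne_zero, _root_.not_false_eq_true]) (by norm_num [dm, Nat.factorial])
  intro hn
  have h4 := h.cond.1
  refine lt_qf h hT (by simp only [dm]; have : 0 < m * (2 * m - 1) := Nat.mul_pos (by omega) (by omega); omega) ?_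
  have h1 : m * (2 * m - 1) ≤ 7 * 13 := Nat.mul_le_mul hn (by omega)
  calc 2 ^ (m * (2 * m - 1)) ≤ 2 ^ 91 := Nat.pow_le_pow_right (by norm_num) (by omega)
    _ ≤ _ := by norm_num [Nat.factorial]

theorem g2_ge {q : ℕ} (h : IsNamed (.g2 q) T) : 175 < q :=
  lt_qf h hT (by simp [dm]) (by norm_num [dm, Nat.factorial])

theorem f4_ge {q : ℕ} (h : IsNamed (.f4 q) T) : 4 < q :=
  lt_qf h hT (by simp [dm]) (by norm_num [dm, Nat.factorial])

theorem e6_ge {q : ℕ} (h : IsNamed (.e6 q) T) : 2 < q :=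
  lt_qf h hT (by simp [dm]) (by norm_num [dm, Nat.factorial])

theorem te6_ge {q : ℕ} (h : IsNamed (.te6 q) T) : 2 < q :=
  lt_qf h hT (by simp [dm]) (by norm_num [dm, Nat.factorial])

theorem td4_ge {q : ℕ} (h : IsNamed (.td4 q) T) : 13 < q :=
  lt_qf h hT (by simp [dm]) (by norm_num [dm, Nat.factorial])

theorem sz_ge {q : ℕ} (h : IsNamed (.sz q) T) : ∃ m, 10 ≤ m ∧ q = 2 ^ (2 * m + 1) := by
  obtain ⟨m, hm, hq⟩ := h.cond
  have h1 : 2 ^ 20 < q := lt_qf h hT (by simp [dm]) (by norm_num [dm, Nat.factorial])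
  rw [hq] at h1
  have := (Nat.pow_lt_pow_iff_right (by norm_num)).1 h1
  exact ⟨m, by omega, hq⟩

theorem ree_ge {q : ℕ} (h : IsNamed (.ree q) T) : ∃ m, 5 ≤ m ∧ q = 3 ^ (2 * m + 1) := by
  obtain ⟨m, hm, hq⟩ := h.cond
  have h1 : 3 ^ 9 < q := lt_qf h hT (by simp [dm]) (by norm_num [dm, Nat.factorial])
  rw [hq] at h1
  have := (Nat.pow_lt_pow_iff_right (by norm_num)).1 h1
  exact ⟨m, by omega, hq⟩

theorem tf4_ge {q : ℕ} (h : IsNamed (.tf4 q) T) : ∃ m, 2 ≤ m ∧ q = 2 ^ (2 * m + 1) := by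
  obtain ⟨m, hm, hq⟩ := h.cond
  have h1 : 2 ^ 4 < q := lt_qf h hT (by simp [dm]) (by norm_num [dm, Nat.factorial])
  rw [hq] at h1
  have := (Nat.pow_lt_pow_iff_right (by norm_num)).1 h1
  exact ⟨m, by omega, hq⟩

/-- the sporadic groups and the Tits group: only `B` and `M` are large enough -/
theorem spor_bm {g : Grp} (h : IsNamed g T) (hg : g ∈ spor.map (fun x => x.1)) : g = .b ∨ g = .m := by
  have h1 := h.ord
  rw [h1] at hT
  simp only [spor, List.map_cons, List.map_nil, List.mem_cons, List.not_mem_nil, or_false] at hg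
  rcases hg with rfl | rfl | rfl | rfl | rfl | rfl | rfl | rfl | rfl | rfl | rfl | rfl | rfl | rfl | rfl | rfl |
    rfl | rfl | rfl | rfl | rfl | rfl | rfl | rfl | rfl | rfl | rfl
  any_goals
    exfalso
    revert hT
    rw [imp_false, not_lt]
    decide
  · exact Or.inl rfl
  · exact Or.inr rfl

end

end Cfsg.Agent.H370.Rg

private theorem dce_2a8d11f5a93a : _root_.True := by
  try have : _root_.True := by simp only [_root_.Cfsg.Agent.H370.Rg.dm.eq_17]
  try have : _root_.True := by simp only [_root_.Cfsg.Agent.H370.Rg.dm.eq_2]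
  try have : _root_.True := by simp only [_root_.Cfsg.Agent.H370.Rg.dm.eq_5]
  try have : _root_.True := by simp only [_root_.Cfsg.Agent.H370.Rg.dm.eq_12]
  try have : _root_.True := by simp only [_root_.Cfsg.Agent.H370.Rg.dm.eq_6]
  try have : _root_.True := by simp only [_root_.Cfsg.Agent.H370.Rg.dm.eq_8]
  try have : _root_.True := by simp only [_root_.Cfsg.Agent.H370.Rg.dm.eq_4]
  try have : _root_.True := by simp only [_root_.Cfsg.Agent.H370.Rg.dm.eq_16]
  try have : _root_.True := by simp only [_root_.Cfsg.Agent.H370.Rg.dm.eq_1]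
  try have : _root_.True := by simp only [_root_.Cfsg.Agent.H370.Rg.dm.eq_11]
  try have : _root_.True := by simp only [_root_.Cfsg.Agent.H370.Rg.dm.eq_13]
  try have : _root_.True := by simp only [_root_.Cfsg.Agent.H370.Rg.dm.eq_15]
  try have : _root_.True := by simp only [_root_.Cfsg.Agent.H370.Rg.dm.eq_9]
  try have : _root_.True := by simp only [_root_.Cfsg.Agent.H370.Rg.dm.eq_7]
  try have : _root_.True := by simp only [_root_.Cfsg.Agent.H370.Rg.dm._sparseCasesOn_1.else_eq]
  try have : _root_.True := by simp only [_root_.Cfsg.Agent.H370.Rg.dm.eq_10]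
  try have : _root_.True := by simp only [_root_.Cfsg.Agent.H370.Rg.dm.eq_14]
  try have : _root_.True := by simp only [_root_.Cfsg.Agent.H370.Rg.dm.eq_3]
  exact _root_.True.intro
end

-- part: H370/Rg/Zsig
section
prune_inst 0x1000050074220000000000004200004032000000004000002040000005890c0180400820b230011080c410045078006000880109421000000a003200011a0080000300029008a400100000008000000000000000000000000000000000000000000000000
set_option linter.all false
open scoped Cfsg.Agent.FastGrp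

/-!
# S3691: primitive prime divisors and outer automorphism groups (helper370)

`q = p ^ f`, `r` a prime with `orderOf (p : ZMod r) = f * k` (a primitive prime divisor of `p ^ (f k) - 1`; `k in X` in the plan).

* `exists_rk` : existence
* `ord_q`, `dvd_q_pow_sub` : `orderOf (q : ZMod r) = k`, `r ∣ q ^ m - 1 ↔ k ∣ m`;  `dvd_pred` : `f * k ∣ r - 1`
* `not_dvd_out` : `r` does not divide `|Out S|` (`S` of Lie type over the field of `p ^ f` elements, `3 ≤ k`);
  `not_dvd_out_of` : a prime `5 ≤ r`, prime to `f` and to the order `dd` of the Schur/diagonal part, does not divide `|Out S|`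
* `out_psl`, `out_psu`, `out_psp`, `out_oodd`, `out_oplus`, `out_ominus` : the versions with an isomorphism `S ≃* ...`
* `out_named` : the version with `IsNamed g S`
-/

set_option autoImplicit false

namespace Cfsg.Agent.H370.Rg

open Cfsg Cfsg.Agent.OrdDiv Finset
open Cfsg.Agent.H902 Cfsg.Agent.H902.Names Cfsg.Agent.H436

universe u

/-! ### primitive prime divisors -/

theorem exists_rk {p f k : ℕ} (hp : p.Prime) (h3 : 3 ≤ f * k) (h6 : ¬ (p = 2 ∧ f * k = 6)) :
    ∃ r, r.Prime ∧ orderOf ((p : ℕ) : ZMod r) = f * k ∧ f * k < r ∧ ¬ r ∣ p := by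
  obtain ⟨r, hr, ho⟩ := Cfsg.Agent.Lib.Zsigmondy.exists_prime_orderOf hp.two_le (by omega : 2 ≤ f * k)
    (fun h => by omega) h6
  have := Fact.mk hr
  have hne : ((p : ℕ) : ZMod r) ≠ 0 := by
    intro h0
    rw [h0] at ho
    have : orderOf (0 : ZMod r) = 0 := by
      rw [orderOf_eq_zero_iff']
      intro m hm
      rw [zero_pow hm.ne']
      exact zero_ne_one
    omega
  have h1 : orderOf ((p : ℕ) : ZMod r) ∣ r - 1 := by
    apply orderOf_dvd_of_pow_eq_one
    exact ZMod.pow_card_sub_one_eq_one hne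
  refine ⟨r, hr, ho, ?_, ?_⟩
  · have h2 := Nat.le_of_dvd (by have := hr.two_le; omega) h1
    have := hr.two_le
    omega
  · intro h
    exact hne ((ZMod.natCast_eq_zero_iff p r).2 h)

section ord

variable {p f k r : ℕ} (hr : r.Prime) (ho : orderOf ((p : ℕ) : ZMod r) = f * k) (hfk : 1 ≤ f * k)

include hr ho hfk

theorem p_ne_zero : ((p : ℕ) : ZMod r) ≠ 0 := by
  have := Fact.mk hr
  intro h0
  rw [h0] at ho
  have : orderOf (0 : ZMod r) = 0 := by
    rw [orderOf_eq_zero_iff']
    intro m hm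
    rw [zero_pow hm.ne']
    exact zero_ne_one
  omega

theorem not_dvd_p : ¬ r ∣ p := fun h => p_ne_zero hr ho hfk ((ZMod.natCast_eq_zero_iff p r).2 h)

theorem dvd_pred : f * k ∣ r - 1 := by
  have := Fact.mk hr
  rw [← ho]
  exact orderOf_dvd_of_pow_eq_one (ZMod.pow_card_sub_one_eq_one (p_ne_zero hr ho hfk))

theorem lt_r : f * k < r := by
  have h2 := Nat.le_of_dvd (by have := hr.two_le; omega) (dvd_pred hr ho hfk)
  have := hr.two_le
  omega

omit hr in
theorem ord_q : orderOf ((p ^ f : ℕ) : ZMod r) = k := by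
  have hf : f ≠ 0 := by rintro rfl; omega
  rw [Nat.cast_pow, orderOf_pow' _ hf, ho, Nat.gcd_eq_right (Dvd.intro _ rfl), Nat.mul_div_cancel_left _ (Nat.pos_of_ne_zero hf)]

theorem dvd_q_pow_sub (m : ℕ) : r ∣ (p ^ f) ^ m - 1 ↔ k ∣ m := by
  have hp : 1 ≤ p ^ f := by
    have : p ≠ 0 := by
      rintro rfl
      exact not_dvd_p hr ho hfk (dvd_zero r)
    exact Nat.one_le_pow _ _ (Nat.pos_of_ne_zero this)
  rw [← ZMod.natCast_eq_zero_iff, Nat.cast_sub (Nat.one_le_pow _ _ hp), Nat.cast_pow, Nat.cast_one, sub_eq_zero,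
    ← orderOf_dvd_iff_pow_eq_one, ord_q ho hfk]

theorem not_dvd_f : ¬ r ∣ f := by
  intro h
  have hf : 0 < f := Nat.pos_of_ne_zero (by rintro rfl; omega)
  have hk : 0 < k := Nat.pos_of_ne_zero (by rintro rfl; omega)
  have h1 := Nat.le_of_dvd hf h
  have h2 := lt_r hr ho hfk
  have h3 : f ≤ f * k := Nat.le_mul_of_pos_right _ hk
  omega

theorem not_dvd_q_sub (h2 : 2 ≤ k) : ¬ r ∣ p ^ f - 1 := by
  have h1 := dvd_q_pow_sub hr ho hfk 1
  rw [pow_one] at h1
  rw [h1]
  intro h
  have := Nat.le_of_dvd one_pos h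
  omega

theorem not_dvd_q_add (h3 : 3 ≤ k) : ¬ r ∣ p ^ f + 1 := by
  intro h
  have h1 := dvd_q_pow_sub hr ho hfk 2
  have h2 : r ∣ (p ^ f) ^ 2 - 1 := by
    have : (p ^ f) ^ 2 - 1 = (p ^ f + 1) * (p ^ f - 1) := by
      have := Nat.sq_sub_sq (p ^ f) 1
      rwa [one_pow] at this
    rw [this]
    exact Dvd.dvd.mul_right h _
  have := Nat.le_of_dvd two_pos (h1.1 h2)
  omega

end ord

/-! ### the outer automorphism group -/

section out

variable {S : Type u} [Group S] [Finite S] [IsSimpleGroup S] (hna : ¬ IsMulCommutative S)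

include hna

theorem not_dvd_out_of {g : Grp} {X : Art.Sh} {p f : ℕ} (hg : IsLie g X p f) (h : OrdDiv.Real g S)
    (hr : Art.Real X p f (Nat.card S)) {r : ℕ} (hrp : r.Prime) (h5 : 5 ≤ r) (hf : ¬ r ∣ f)
    (hd : ¬ r ∣ Art.dd X (p ^ f)) : ¬ r ∣ Nat.card (Cfsg.Out S) := by
  obtain ⟨c, h1, h2, -⟩ := Cfsg.Agent.H364.OutLie.card_out (fun hc => hna ⟨⟨hc⟩⟩) hg h hr
  rw [h1, hrp.dvd_mul]
  rintro (h3 | h3)
  · rcases (hrp.dvd_mul).1 (h3.trans h2) with h4 | h4
    · have h6 : (24 : ℕ) = 2 ^ 3 * 3 := by norm_num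
      rw [h6, hrp.dvd_mul] at h4
      rcases h4 with h4 | h4
      · have := Nat.le_of_dvd (by norm_num) (hrp.dvd_of_dvd_pow h4)
        omega
      · have := Nat.le_of_dvd (by norm_num) h4
        omega
    · exact hd h4
  · exact hf h3

/-- the primitive primes `r_k`, `3 ≤ k`, do not divide `|Out S|` -/
theorem not_dvd_out {g : Grp} {X : Art.Sh} {p f : ℕ} (hg : IsLie g X p f) (h : OrdDiv.Real g S)
    (hr : Art.Real X p f (Nat.card S)) {r k : ℕ} (hrp : r.Prime) (hk : 3 ≤ k)
    (ho : orderOf ((p : ℕ) : ZMod r) = f * k) : ¬ r ∣ Nat.card (Cfsg.Out S) := by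
  have hf := hr.hf
  have hfk : 1 ≤ f * k := Nat.mul_pos hf (by omega)
  have hlt := lt_r hrp ho hfk
  have h3 : 3 ≤ f * k := by
    calc 3 = 1 * 3 := by norm_num
      _ ≤ f * k := Nat.mul_le_mul hf hk
  have h5 : 5 ≤ r := by
    have : r ≠ 4 := by rintro rfl; exact absurd hrp (by norm_num)
    omega
  refine not_dvd_out_of hna hg h hr hrp h5 (not_dvd_f hrp ho hfk) ?_
  have hm := not_dvd_q_sub hrp ho hfk (by omega)
  have hp := not_dvd_q_add hrp ho hfk hk
  cases X with
  | L n => exact fun h => hm (h.trans (Nat.gcd_dvd_right _ _))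
  | C n => exact fun h => hm (h.trans (Nat.gcd_dvd_right _ _))
  | U n => exact fun h => hp (h.trans (Nat.gcd_dvd_right _ _))
  | D n =>
    intro h
    have := Nat.le_of_dvd (by norm_num) (h.trans (Nat.gcd_dvd_left _ _))
    omega
  | DD n =>
    intro h
    have := Nat.le_of_dvd (by norm_num) (h.trans (Nat.gcd_dvd_left _ _))
    omega
  | E6 => exact fun h => hm (h.trans (Nat.gcd_dvd_right _ _))
  | E7 => exact fun h => hm (h.trans (Nat.gcd_dvd_right _ _))
  | TE6 => exact fun h => hp (h.trans (Nat.gcd_dvd_right _ _))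
  | _ => exact fun h => hrp.one_lt.ne' (Nat.dvd_one.1 h)

variable {F : Type} [Field F] [Fintype F] {p f : ℕ} (hp : p.Prime) (hf : 1 ≤ f)

include hp hf

theorem out_oodd (hF : Fintype.card F = p ^ f) {n : ℕ} (hn : 3 ≤ n) (hodd : Odd (p ^ f))
    (e : Nonempty (S ≃* POmega F (quadFormOdd n F))) {r k : ℕ} (hrp : r.Prime) (hk : 3 ≤ k)
    (ho : orderOf ((p : ℕ) : ZMod r) = f * k) : ¬ r ∣ Nat.card (Cfsg.Out S) := by
  obtain ⟨e⟩ := e
  exact not_dvd_out hna (.oodd n p f hn hodd) ⟨F, inferInstance, inferInstance, hF, ⟨e⟩⟩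
    (by rw [Nat.card_congr e.toEquiv]; exact oodd_real hp hf hF hn hodd) hrp hk ho

theorem out_oplus (hF : Fintype.card F = p ^ f) {n : ℕ} (hn : 4 ≤ n)
    (e : Nonempty (S ≃* POmega F (quadFormPlus n F))) {r k : ℕ} (hrp : r.Prime) (hk : 3 ≤ k)
    (ho : orderOf ((p : ℕ) : ZMod r) = f * k) : ¬ r ∣ Nat.card (Cfsg.Out S) := by
  obtain ⟨e⟩ := e
  exact not_dvd_out hna (.oplus n p f) ⟨F, inferInstance, inferInstance, hF, ⟨e⟩⟩
    (by rw [Nat.card_congr e.toEquiv]; exact oplus_real hp hf hF hn) hrp hk ho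

theorem out_ominus (hF : Fintype.card F = p ^ f) {n : ℕ} (hn : 4 ≤ n) {a b : F}
    (hab : ∀ z₁ z₂ : F, z₁ ^ 2 + a * z₁ * z₂ + b * z₂ ^ 2 = 0 → z₁ = 0 ∧ z₂ = 0)
    (e : Nonempty (S ≃* POmega F (quadFormMinus (n - 1) F a b))) {r k : ℕ} (hrp : r.Prime) (hk : 3 ≤ k)
    (ho : orderOf ((p : ℕ) : ZMod r) = f * k) : ¬ r ∣ Nat.card (Cfsg.Out S) := by
  obtain ⟨e⟩ := e
  exact not_dvd_out hna (.ominus n p f) ⟨F, inferInstance, inferInstance, a, b, hF, hab, ⟨e⟩⟩
    (by rw [Nat.card_congr e.toEquiv]; exact ominus_real hp hf hF hn hab) hrp hk ho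

end out

end Cfsg.Agent.H370.Rg
end
end
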